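import Cfsg.Agent.H892.TNumE8

/-!
# S3536, `E₈(u)`: arithmetic (helper76)

`e8_num` : `m = (w⁸ + 1) / 2` is not `Φ₁₅(u)`, `Φ₂₀(u)`, `Φ₃₀(u)` if the powers of `2` dividing `u⁸ - 1` divide `m - 1`.
-/

set_option autoImplicit false

namespace Cfsg.Agent.H76.TP

open Cfsg.Agent.H892.TExc

/-- powers of 2 -/
theorem two_lem {A B : ℤ} (hA : A ≠ 0) (hB : Odd B) (h : ∀ j : ℕ, (2 : ℤ) ^ j ∣ 2 * A → (2 : ℤ) ^ j ∣ A * B) : False := by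
  obtain ⟨j, o, ho, hjo⟩ := Nat.exists_eq_two_pow_mul_odd (n := A.natAbs) (by omega)
  have h1 : (2 : ℤ) ^ j ∣ A := by
    rw [← Int.natAbs_dvd_natAbs, Int.natAbs_pow, hjo]
    exact Dvd.intro _ rfl
  have h2 : (2 : ℤ) ^ (j + 1) ∣ 2 * A := by
    rw [pow_succ']
    exact mul_dvd_mul_left 2 h1
  have h3 := h _ h2
  have h4 : IsCoprime ((2 : ℤ) ^ (j + 1)) B := by
    apply IsCoprime.pow_left
    obtain ⟨c, rfl⟩ := hB
    exact ⟨-c, 1, by ring⟩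
  have h5 := h4.dvd_of_dvd_mul_right h3
  rw [← Int.natAbs_dvd_natAbs, Int.natAbs_pow, hjo, pow_succ] at h5
  have h6 : 2 ∣ o := (Nat.mul_dvd_mul_iff_left (by positivity)).1 h5
  exact (Nat.not_even_iff_odd.2 ho) (even_iff_two_dvd.2 h6)

theorem bnd8 {x : ℤ} (hx : 7 ≤ x) : x ^ 8 < 2 * P15 x - 1 ∧ 2 * P30 x - 1 < 3 * x ^ 8 ∧ P15 x ≤ P20 x ∧
    P20 x ≤ P30 x := by
  obtain ⟨t, rfl⟩ : ∃ t : ℕ, x = (t : ℤ) + 7 := ⟨(x - 7).toNat, by omega⟩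
  unfold P15 P20 P30
  refine ⟨?_, ?_, ?_, ?_⟩
  · rw [← sub_pos]; ring_nf; positivity
  · rw [← sub_pos]; ring_nf; positivity
  · rw [← sub_nonneg]; ring_nf; positivity
  · rw [← sub_nonneg]; ring_nf; positivity

/-- `w` is between `u` and `19 u / 16` -/
theorem w_bnd {w u m : ℕ} (hm : 2 * m = w ^ 8 + 1) (hu : 7 ≤ u)
    (h : (m : ℤ) = P15 u ∨ (m : ℤ) = P20 u ∨ (m : ℤ) = P30 u) : u < w ∧ 16 * w < 19 * u := by
  obtain ⟨b1, b2, b3, b4⟩ := bnd8 (x := (u : ℤ)) (by exact_mod_cast hu)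
  have e : (2 : ℤ) * m = (w : ℤ) ^ 8 + 1 := by exact_mod_cast hm
  have h1 : (u : ℤ) ^ 8 < (w : ℤ) ^ 8 ∧ (w : ℤ) ^ 8 < 3 * (u : ℤ) ^ 8 := by
    rcases h with h | h | h <;> rw [h] at e <;> constructor <;> linarith
  obtain ⟨h1, h2⟩ := h1
  have h1' : u ^ 8 < w ^ 8 := by exact_mod_cast h1
  have h2' : w ^ 8 < 3 * u ^ 8 := by exact_mod_cast h2
  refine ⟨lt_of_pow_lt_pow_left₀ 8 (by omega) h1', ?_⟩
  by_contra hc
  have h3 : (19 * u) ^ 8 ≤ (16 * w) ^ 8 := Nat.pow_le_pow_left (not_lt.1 hc) 8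
  rw [mul_pow, mul_pow] at h3
  norm_num at h3
  have : 0 < u ^ 8 := by positivity
  omega

/-- the case of characteristic 2: the power of 2 in `w² - 1` -/
theorem w_sq {w f o m : ℕ} (hw : Odd w) (hw1 : 1 < w) (hm : 2 * m = w ^ 8 + 1) (h : m = 2 ^ f * o + 1) (ho : Odd o)
    (hf : 1 ≤ f) : 4 ≤ f ∧ ∃ c : ℕ, Odd c ∧ (w = c * 2 ^ (f - 2) + 1 ∨ w + 1 = c * 2 ^ (f - 2)) := by
  -- `w² - 1 = 2 ^ g * b`
  have hsq : (w ^ 2) % 8 = 1 := by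
    obtain ⟨c, rfl⟩ := hw
    obtain ⟨d, hd⟩ := Nat.even_mul_succ_self c
    have : (2 * c + 1) ^ 2 = 4 * (c * (c + 1)) + 1 := by ring
    omega
  have hlt : 1 < w ^ 2 := Nat.one_lt_pow (by norm_num) hw1
  obtain ⟨g, b, hb, hgb⟩ := Nat.exists_eq_two_pow_mul_odd (n := w ^ 2 - 1) (by omega)
  obtain ⟨Y, hY⟩ : ∃ Y, w ^ 2 = 4 * Y + 1 := ⟨w ^ 2 / 4, by omega⟩
  have hYe : Even Y := by rw [Nat.even_iff]; omega
  -- the factorisation of `w ^ 8 - 1`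
  have e1 : w ^ 8 = 4 * ((w ^ 2 - 1) * (2 * Y + 1) * (8 * Y ^ 2 + 4 * Y + 1)) + 1 := by
    have e2 : w ^ 2 - 1 = 4 * Y := by omega
    have e3 : w ^ 8 = (w ^ 2) ^ 4 := by ring
    rw [e2, e3, hY]
    ring
  have ho1 : Odd (2 * Y + 1) := ⟨Y, rfl⟩
  have ho2 : Odd (8 * Y ^ 2 + 4 * Y + 1) := ⟨4 * Y ^ 2 + 2 * Y, by ring⟩
  have e4 : 2 ^ f * o = 2 * (2 ^ g * (b * (2 * Y + 1) * (8 * Y ^ 2 + 4 * Y + 1))) := by
    rw [hgb] at e1
    have : 2 * (2 ^ f * o) = 2 * (2 * (2 ^ g * (b * (2 * Y + 1) * (8 * Y ^ 2 + 4 * Y + 1)))) := by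
      have e5 : 2 ^ g * b * (2 * Y + 1) * (8 * Y ^ 2 + 4 * Y + 1) = 2 ^ g * (b * (2 * Y + 1) * (8 * Y ^ 2 + 4 * Y + 1)) := by
        ring
      rw [e5] at e1
      omega
    omega
  have hfg : f = g + 1 := by
    have hB : Odd (b * (2 * Y + 1) * (8 * Y ^ 2 + 4 * Y + 1)) := (hb.mul ho1).mul ho2
    generalize b * (2 * Y + 1) * (8 * Y ^ 2 + 4 * Y + 1) = B at e4 hB
    rw [← mul_assoc, ← pow_succ'] at e4
    have h1 : 2 ^ f ∣ 2 ^ (g + 1) :=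
      (Nat.Coprime.pow_left _ (Nat.coprime_two_left.2 hB)).dvd_of_dvd_mul_right (e4 ▸ Dvd.intro _ rfl)
    have h2 : 2 ^ (g + 1) ∣ 2 ^ f :=
      (Nat.Coprime.pow_left _ (Nat.coprime_two_left.2 ho)).dvd_of_dvd_mul_right (e4 ▸ Dvd.intro _ rfl)
    exact le_antisymm ((Nat.pow_dvd_pow_iff_le_right (by norm_num)).1 h1)
      ((Nat.pow_dvd_pow_iff_le_right (by norm_num)).1 h2)
  have hg3 : 3 ≤ g := by
    by_contra hc
    have h8 : 8 ∣ 2 ^ g * b := by rw [← hgb]; omega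
    have h1 : 2 ^ 3 ∣ 2 ^ g := (Nat.Coprime.pow_left 3 (Nat.coprime_two_left.2 hb)).dvd_of_dvd_mul_right h8
    have := (Nat.pow_dvd_pow_iff_le_right (by norm_num)).1 h1
    omega
  refine ⟨by omega, ?_⟩
  have e6 : f - 2 = g - 1 := by omega
  rw [e6]
  obtain ⟨g', rfl⟩ : ∃ g', g = g' + 1 := ⟨g - 1, by omega⟩
  rw [Nat.add_sub_cancel]
  obtain ⟨c, hc⟩ := hw
  have e7 : w ^ 2 - 1 = 4 * (c * (c + 1)) := by
    have : w ^ 2 = 4 * (c * (c + 1)) + 1 := by rw [hc]; ring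
    omega
  have e8 : 2 * (c * (c + 1)) = 2 ^ g' * b := by
    rw [e7, pow_succ] at hgb
    have : 2 * (2 * (c * (c + 1))) = 2 * (2 ^ g' * b) := by
      rw [← mul_assoc, show 2 * 2 = 4 by norm_num, hgb]; ring
    omega
  have cop : ∀ a : ℕ, Odd a → (2 ^ g').Coprime a := fun a ha => Nat.Coprime.pow_left _ (Nat.coprime_two_left.2 ha)
  rcases Nat.even_or_odd c with h3 | h3
  · have h4 : 2 ^ g' ∣ 2 * c := (cop _ h3.add_one).dvd_of_dvd_mul_right (by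
      rw [show 2 * c * (c + 1) = 2 * (c * (c + 1)) by ring, e8]; exact Dvd.intro _ rfl)
    obtain ⟨d, hd⟩ := h4
    have h5 : d * (c + 1) = b := by
      have : 2 ^ g' * (d * (c + 1)) = 2 ^ g' * b := by
        rw [← e8, ← mul_assoc, ← hd]; ring
      exact Nat.eq_of_mul_eq_mul_left (by positivity) this
    refine ⟨d, ?_, Or.inl ?_⟩
    · rw [← h5] at hb
      exact (Nat.odd_mul.1 hb).1
    · rw [hc, hd]; ring
  · have h4 : 2 ^ g' ∣ 2 * (c + 1) := (cop _ h3).dvd_of_dvd_mul_right (by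
      rw [show 2 * (c + 1) * c = 2 * (c * (c + 1)) by ring, e8]; exact Dvd.intro _ rfl)
    obtain ⟨d, hd⟩ := h4
    have h5 : d * c = b := by
      have : 2 ^ g' * (d * c) = 2 ^ g' * b := by
        rw [← e8, ← mul_assoc, ← hd]; ring
      exact Nat.eq_of_mul_eq_mul_left (by positivity) this
    refine ⟨d, ?_, Or.inr ?_⟩
    · rw [← h5] at hb
      exact (Nat.odd_mul.1 hb).1
    · rw [hc, show 2 * c + 1 + 1 = 2 * (c + 1) by ring, hd]; ring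

theorem e8_num {w u m : ℕ} (hw : Odd w) (hw3 : 1 < w) (hm : 2 * m = w ^ 8 + 1) (hu : IsPrimePow u)
    (h2 : ∀ j : ℕ, 2 ^ j ∣ u ^ 8 - 1 → 2 ^ j ∣ m - 1)
    (h : (m : ℤ) = P15 u ∨ (m : ℤ) = P20 u ∨ (m : ℤ) = P30 u) : False := by
  have hu1 : 1 ≤ u := hu.pos
  have hm1 : 1 ≤ m := by
    have : 1 ≤ w ^ 8 := Nat.one_le_pow _ _ (by omega)
    omega
  have hu2 : 2 ≤ u := by
    have := hu.one_lt
    omega
  by_cases hu6 : u ≤ 6
  · have e : ((w ^ 2 : ℕ) : ℤ) ^ 4 = 2 * (m : ℤ) - 1 := by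
      have : (2 : ℤ) * m = (w : ℤ) ^ 8 + 1 := by exact_mod_cast hm
      rw [this]; push_cast; ring
    rcases h with h | h | h <;> rw [h] at e
    · exact e8_small hu2 hu6 (Or.inl e)
    · exact e8_small hu2 hu6 (Or.inr (Or.inl e))
    · exact e8_small hu2 hu6 (Or.inr (Or.inr (Or.inr e)))
  have hu7 : 7 ≤ u := by omega
  -- factorisations
  have hf : (m : ℤ) - 1 = (u : ℤ) * ((u : ℤ) ^ 4 - 1) * ((u : ℤ) ^ 3 - u ^ 2 + 1) ∨
      (m : ℤ) - 1 = (u : ℤ) ^ 2 * ((u : ℤ) ^ 2 - 1) * ((u : ℤ) ^ 4 + 1) ∨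
      (m : ℤ) - 1 = (u : ℤ) * ((u : ℤ) ^ 4 - 1) * ((u : ℤ) ^ 3 + u ^ 2 - 1) := by
    rcases h with h | h | h
    · left; rw [h]; unfold P15; ring
    · right; left; rw [h]; unfold P20; ring
    · right; right; rw [h]; unfold P30; ring
  have u7 : (7 : ℤ) ≤ u := by exact_mod_cast hu7
  rcases Nat.even_or_odd u with hev | hod
  · -- characteristic 2
    obtain ⟨l, f, hl, hf0, hlf⟩ := hu
    have hl2 : l = 2 := by
      have h3 : 2 ∣ l ^ f := by rw [hlf]; exact even_iff_two_dvd.1 hev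
      exact ((Nat.prime_dvd_prime_iff_eq Nat.prime_two hl.nat_prime).1 (Nat.prime_two.dvd_of_dvd_pow h3)).symm
    subst hl2
    obtain ⟨b1, b2⟩ := w_bnd hm hu7 h
    have ev : Even (u : ℤ) := by exact_mod_cast hev
    have o4 : Odd ((u : ℤ) ^ 4 - 1) := (ev.pow_of_ne_zero (by norm_num)).sub_odd odd_one
    have o2 : Odd ((u : ℤ) ^ 2 - 1) := (ev.pow_of_ne_zero (by norm_num)).sub_odd odd_one
    have o4' : Odd ((u : ℤ) ^ 4 + 1) := (ev.pow_of_ne_zero (by norm_num)).add_one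
    have o3 : Odd ((u : ℤ) ^ 3 - u ^ 2 + 1) :=
      ((ev.pow_of_ne_zero (by norm_num)).sub (ev.pow_of_ne_zero (by norm_num))).add_one
    have o3' : Odd ((u : ℤ) ^ 3 + u ^ 2 - 1) :=
      ((ev.pow_of_ne_zero (by norm_num)).add (ev.pow_of_ne_zero (by norm_num))).sub_odd odd_one
    have key1 : ∀ (g : ℕ) (B : ℤ), Odd B → 0 ≤ B → (m : ℤ) - 1 = (2 : ℤ) ^ g * B → ∃ o : ℕ, Odd o ∧ m = 2 ^ g * o + 1 := by
      intro g B hB hB0 hE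
      obtain ⟨o, rfl⟩ := Int.eq_ofNat_of_zero_le hB0
      refine ⟨o, by exact_mod_cast hB, ?_⟩
      have : (m : ℤ) = ((2 ^ g * o + 1 : ℕ) : ℤ) := by push_cast; linarith
      exact_mod_cast this
    have p2 : (0 : ℤ) ≤ (u : ℤ) ^ 2 - 1 := by nlinarith
    have p4 : (0 : ℤ) ≤ (u : ℤ) ^ 4 - 1 := by nlinarith [pow_succ (u : ℤ) 3, pow_succ (u : ℤ) 2]
    have p3 : (0 : ℤ) ≤ (u : ℤ) ^ 3 - u ^ 2 + 1 := by nlinarith [pow_succ (u : ℤ) 2]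
    have p3' : (0 : ℤ) ≤ (u : ℤ) ^ 3 + u ^ 2 - 1 := by nlinarith [pow_succ (u : ℤ) 2]
    -- the cases `15`, `30`
    have c1 : (∃ o : ℕ, Odd o ∧ m = 2 ^ f * o + 1) → False := by
      rintro ⟨o, ho, hmo⟩
      obtain ⟨hf4, c, hc, hwc⟩ := w_sq hw hw3 hm hmo ho hf0
      obtain ⟨g, rfl⟩ : ∃ g, f = g + 2 := ⟨f - 2, by omega⟩
      rw [Nat.add_sub_cancel] at hwc
      have hg : 4 ≤ 2 ^ g := by
        calc 4 = 2 ^ 2 := by norm_num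
          _ ≤ 2 ^ g := Nat.pow_le_pow_right (by norm_num) (by omega)
      have hug : u = 4 * 2 ^ g := by rw [← hlf, pow_add]; ring
      generalize 2 ^ g = v at *
      have hc5 : 5 ≤ c := by
        by_contra hc5
        have hc3 : c ≤ 3 := by
          rcases hc with ⟨d, rfl⟩
          omega
        have : c * v ≤ 3 * v := Nat.mul_le_mul_right v hc3
        omega
      have : 5 * v ≤ c * v := Nat.mul_le_mul_right v hc5
      omega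
    rcases hf with hf | hf | hf
    · exact c1 (key1 f (((u : ℤ) ^ 4 - 1) * ((u : ℤ) ^ 3 - u ^ 2 + 1)) (o4.mul o3) (mul_nonneg p4 p3) (by
        rw [hf, ← hlf]; push_cast; ring))
    · obtain ⟨o, ho, hmo⟩ := key1 (2 * f) (((u : ℤ) ^ 2 - 1) * ((u : ℤ) ^ 4 + 1)) (o2.mul o4')
        (mul_nonneg p2 (by positivity)) (by rw [hf, ← hlf]; push_cast; ring)
      obtain ⟨hf4, c, hc, hwc⟩ := w_sq hw hw3 hm hmo ho (by omega)
      have hf2 : 2 ≤ f := by omega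
      obtain ⟨g, rfl⟩ : ∃ g, f = g + 1 := ⟨f - 1, by omega⟩
      have e1 : 2 * (g + 1) - 2 = 2 * g := by omega
      rw [e1, pow_mul'] at hwc
      have hug : u = 2 * 2 ^ g := by rw [← hlf, pow_succ]; ring
      have hv4 : 4 ≤ 2 ^ g := by
        by_contra hlt
        have h1 : 2 ^ g ≤ 3 := by omega
        omega
      generalize 2 ^ g = v at *
      have hc1 : 1 ≤ c := hc.pos
      have h5 : v ^ 2 ≤ c * v ^ 2 := Nat.le_mul_of_pos_left _ hc1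
      have h6 : 4 * v ≤ v ^ 2 := by nlinarith
      -- `u = 2 v`, `w ≥ v² - 1`, `16 w < 38 v`
      have h7 : v ^ 2 ≤ w + 1 := by omega
      omega
    · exact c1 (key1 f (((u : ℤ) ^ 4 - 1) * ((u : ℤ) ^ 3 + u ^ 2 - 1)) (o4.mul o3') (mul_nonneg p4 p3') (by
        rw [hf, ← hlf]; push_cast; ring))
  · -- odd characteristic
    have ho : Odd (u : ℤ) := by exact_mod_cast hod
    have h2' : ∀ j : ℕ, (2 : ℤ) ^ j ∣ (u : ℤ) ^ 8 - 1 → (2 : ℤ) ^ j ∣ (m : ℤ) - 1 := by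
      intro j hj
      have h8 : 1 ≤ u ^ 8 := Nat.one_le_pow _ _ hu1
      have e1 : ((u ^ 8 - 1 : ℕ) : ℤ) = (u : ℤ) ^ 8 - 1 := by push_cast [Nat.cast_sub h8]; ring
      have e2 : ((m - 1 : ℕ) : ℤ) = (m : ℤ) - 1 := by push_cast [Nat.cast_sub hm1]; ring
      rw [← e1] at hj
      rw [← e2]
      exact_mod_cast h2 j (by exact_mod_cast hj)
    have n4 : (u : ℤ) ^ 4 - 1 ≠ 0 := by
      have : (7 : ℤ) ^ 4 ≤ (u : ℤ) ^ 4 := pow_le_pow_left₀ (by norm_num) u7 4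
      omega
    have n2 : 2 * ((u : ℤ) ^ 2 - 1) ≠ 0 := by
      have : (7 : ℤ) ^ 2 ≤ (u : ℤ) ^ 2 := pow_le_pow_left₀ (by norm_num) u7 2
      omega
    obtain ⟨d, hd⟩ : ∃ d : ℤ, (u : ℤ) ^ 4 + 1 = 2 * d ∧ Odd d := by
      obtain ⟨c, hc⟩ := ho
      refine ⟨8 * c ^ 4 + 16 * c ^ 3 + 12 * c ^ 2 + 4 * c + 1, by rw [hc]; ring, ⟨4 * c ^ 4 + 8 * c ^ 3 + 6 * c ^ 2 + 2 * c, by ring⟩⟩
    have key : ∀ B : ℤ, Odd B → (m : ℤ) - 1 = ((u : ℤ) ^ 4 - 1) * B → False := by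
      intro B hB hE
      refine two_lem n4 hB fun j hj => ?_
      rw [← hE]
      refine h2' j (hj.trans ⟨d, ?_⟩)
      have : (u : ℤ) ^ 8 - 1 = ((u : ℤ) ^ 4 - 1) * ((u : ℤ) ^ 4 + 1) := by ring
      rw [this, hd.1]; ring
    rcases hf with hf | hf | hf
    · refine key (u * ((u : ℤ) ^ 3 - u ^ 2 + 1)) (ho.mul ?_) (by rw [hf]; ring)
      exact (ho.pow.sub_odd ho.pow).add_one
    · refine two_lem (A := 2 * ((u : ℤ) ^ 2 - 1)) (B := (u : ℤ) ^ 2 * d) n2 (ho.pow.mul hd.2) fun j hj => ?_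
      have e1 : 2 * ((u : ℤ) ^ 2 - 1) * ((u : ℤ) ^ 2 * d) = (m : ℤ) - 1 := by
        rw [hf, hd.1]; ring
      rw [e1]
      refine h2' j (hj.trans ?_)
      obtain ⟨c, hc⟩ : (2 : ℤ) ∣ (u : ℤ) ^ 2 + 1 := even_iff_two_dvd.1 (ho.pow.add_odd odd_one)
      refine ⟨c * d, ?_⟩
      have : (u : ℤ) ^ 8 - 1 = ((u : ℤ) ^ 2 - 1) * ((u : ℤ) ^ 2 + 1) * ((u : ℤ) ^ 4 + 1) := by ring
      rw [this, hd.1, hc]; ring
    · refine key (u * ((u : ℤ) ^ 3 + u ^ 2 - 1)) (ho.mul ?_) (by rw [hf]; ring)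
      exact (ho.pow.add_odd ho.pow).sub_odd odd_one

end Cfsg.Agent.H76.TP
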