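import Cfsg.Agent.H76.TP.Base
import Cfsg.Agent.H76.TP.E8Num
import Cfsg.Agent.H76.TP.E8Tor

/-!
# Block TP (S3536): `G₂`, `F₄`, `³D₄`, `E₇`, `E₈` (helper76, after helper892)

`g2`, `f4`, `td4`, `e7`, `e8` : `TK p q k S → IsNamed (.x v) S → False`.
-/

set_option autoImplicit false
set_option linter.unusedSectionVars false

namespace Cfsg.Agent.H76.TP

open Cfsg Cfsg.Lie Subgroup
open Cfsg.Agent.H202.T Cfsg.Agent.H202.TP Cfsg.Agent.H436 Cfsg.Agent.OrdDiv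
open Cfsg.Agent.H129 Cfsg.Agent.H129.CycT Cfsg.Agent.H129.WData
open Cfsg.Agent.H378 Cfsg.Agent.H378.ExcAdj Cfsg.Agent.H378.CycTab Cfsg.Agent.H378.ExcNear Cfsg.Agent.H378.RegFin
  Cfsg.Agent.H378.AdjTab
open Cfsg.Agent.H892.TExc (nat_dvd T_G2_3 T_G2_6 T_F4_8 T_E8_20 P15 P20 P24 P30)

universe u

variable {p q k : ℕ} {F : Type u} [Field F] [Fintype F]

theorem g2_core {u : ℕ} (hF : Fintype.card F = u) (hu : IsPrimePow u) (h : TK p q k ↥(chevG2.group F)) : False := by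
  obtain ⟨r, hr, hrm, hrd, hr8, hn⟩ := exists_r h
  have hFN : Nat.card F = u := by rw [Nat.card_eq_fintype_card, hF]
  have hr3 : r ≠ 3 := by rintro rfl; omega
  rcases (near_G2 F hr hrd).resolve_left hn with ho | ho
  · have h1 := dvd3 hr ho
    rw [pv3, hFN] at h1
    have hN : ((u ^ 2 + u + 1 : ℕ) : ℤ) = 1 + (u : ℤ) + (u : ℤ) ^ 2 := by push_cast; ring
    have hrN : r ∣ u ^ 2 + u + 1 := nat_dvd hN (by
      have e : 1 + (u : ℤ) + (u : ℤ) ^ 2 = (u : ℤ) ^ 2 + u + 1 := by ring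
      rw [e]; exact h1)
    obtain ⟨T, hT1, hT2, hT3⟩ := T_G2_3 hF hN hr hrN hr3
    have h5 := eq_of_T h hT1 hT2 hr hrm hrN hT3
    refine h.prime_power hu (Or.inl ?_)
    rw [← h5]
    ring
  · have h1 := dvd6 hr ho
    rw [pv6, hFN] at h1
    have hle : u ≤ u ^ 2 := Nat.le_self_pow (by norm_num) _
    have hN : ((u ^ 2 - u + 1 : ℕ) : ℤ) = 1 - (u : ℤ) + (u : ℤ) ^ 2 := by
      push_cast [Nat.cast_sub hle]; ring
    have hrN : r ∣ u ^ 2 - u + 1 := nat_dvd hN (by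
      have e : 1 - (u : ℤ) + (u : ℤ) ^ 2 = (u : ℤ) ^ 2 - u + 1 := by ring
      rw [e]; exact h1)
    obtain ⟨T, hT1, hT2, hT3⟩ := T_G2_6 hF hN hr hrN hr3
    have h5 := eq_of_T h hT1 hT2 hr hrm hrN hT3
    refine h.prime_power hu (Or.inr ?_)
    rw [← h5, Nat.mul_sub, mul_one, pow_two]

theorem f4_core {u : ℕ} (hF : Fintype.card F = u) (hu : IsPrimePow u) (h : TK p q k ↥(chevF4.group F)) : False := by
  obtain ⟨r, hr, hrm, hrd, hr8, hn⟩ := exists_r h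
  have hFN : Nat.card F = u := by rw [Nat.card_eq_fintype_card, hF]
  have hr2 : r ≠ 2 := by rintro rfl; omega
  rcases (near_F4 F hr hrd).resolve_left hn with ho | ho
  · have h1 := dvd8 hr ho
    rw [pv8, hFN] at h1
    have hN : ((u ^ 4 + 1 : ℕ) : ℤ) = 1 + (u : ℤ) ^ 4 := by push_cast; ring
    have hrN : r ∣ u ^ 4 + 1 := nat_dvd hN (by rw [add_comm]; exact h1)
    obtain ⟨T, hT1, hT2, hT3⟩ := T_F4_8 hF hN hr hrN hr2
    have h5 := eq_of_T h hT1 hT2 hr hrm hrN hT3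
    have h6 := h.mn_mod
    rw [← h5] at h6
    have h7 : 2 ∣ u ^ 4 := by omega
    have h8 : 2 ∣ u := Nat.prime_two.dvd_of_dvd_pow h7
    obtain ⟨l, f, hl, hf0, hlf⟩ := hu
    have hl2 : l = 2 := by
      rw [← hlf] at h8
      exact ((Nat.prime_dvd_prime_iff_eq Nat.prime_two hl.nat_prime).1 (Nat.prime_two.dvd_of_dvd_pow h8)).symm
    apply h.not_two_pow (f * 4)
    rw [← h5, ← hlf, hl2, pow_mul]
  · have h1 := dvd12 hr ho
    rw [pv12, hFN] at h1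
    have hle : u ^ 2 ≤ u ^ 4 := Nat.pow_le_pow_right hu.pos (by norm_num)
    have hN : ((u ^ 4 - u ^ 2 + 1 : ℕ) : ℤ) = 1 - (u : ℤ) ^ 2 + (u : ℤ) ^ 4 := by
      push_cast [Nat.cast_sub hle]; ring
    have hrN : r ∣ u ^ 4 - u ^ 2 + 1 := nat_dvd hN (by
      have e : 1 - (u : ℤ) ^ 2 + (u : ℤ) ^ 4 = (u : ℤ) ^ 4 - u ^ 2 + 1 := by ring
      rw [e]; exact h1)
    exact no_twelve h hu (eq_of_exact h hr hrm hrN (exact_F4_12 hF hN))

theorem td4_core {u : ℕ} (hF : Fintype.card F = u ^ 3) (hu : IsPrimePow u) (h : TK p q k ↥(twistedD4 F u)) : False := by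
  obtain ⟨r, hr, hrm, hrd, hr8, hn⟩ := exists_r h
  have ho := (TwRows.near_3D4 hu hF hr hrd).resolve_left hn
  have h1 := dvd12 hr ho
  rw [pv12] at h1
  have hle : u ^ 2 ≤ u ^ 4 := Nat.pow_le_pow_right hu.pos (by norm_num)
  have hN : ((u ^ 4 - u ^ 2 + 1 : ℕ) : ℤ) = (u : ℤ) ^ 4 - (u : ℤ) ^ 2 + 1 := by
    push_cast [Nat.cast_sub hle]; ring
  have hrN : r ∣ u ^ 4 - u ^ 2 + 1 := nat_dvd hN h1
  obtain ⟨T, hT1, hT2, hT3⟩ := TwD4Cyc.coxeter_torus hu hF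
  refine no_twelve h hu (eq_of_T h hT1 hT2 hr hrm hrN fun y hy hyr => ?_)
  -- the centraliser is abelian
  obtain ⟨hab, -⟩ := TwRows.cent_3D4 hu hF hr hyr ho
  intro z hz
  rw [Subgroup.mem_centralizer_singleton_iff] at hz
  rw [← hT3, Subgroup.mem_centralizer_iff]
  intro t ht
  have h2 : Commute t y := by
    have := le_centralizer_of_cyclic hT1 hy ht
    rwa [Subgroup.mem_centralizer_singleton_iff] at this
  exact hab t z h2 hz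

theorem e7_core {u : ℕ} (hF : Fintype.card F = u) (h : TK p q k ↥(chevE7.group F)) : False := by
  obtain ⟨r, hr, hrm, hrd, hr8, hn⟩ := exists_r h
  have hFN : Nat.card F = u := by rw [Nat.card_eq_fintype_card, hF]
  have hu2 : 2 ≤ u := by rw [← hF]; exact Fintype.one_lt_card
  have h4 := h.mn_ge
  obtain ⟨hu3, ho⟩ := (near_E7 F hr hrd).resolve_left hn
  rw [hFN] at hu3
  rcases ho with ho | ho
  · have h1 := dvd7 hr ho
    rw [pv7, hFN] at h1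
    have hN : ((u ^ 6 + u ^ 5 + u ^ 4 + u ^ 3 + u ^ 2 + u + 1 : ℕ) : ℤ) =
        1 + (u : ℤ) + (u : ℤ) ^ 2 + (u : ℤ) ^ 3 + (u : ℤ) ^ 4 + (u : ℤ) ^ 5 + (u : ℤ) ^ 6 := by push_cast; ring
    have hrN : r ∣ u ^ 6 + u ^ 5 + u ^ 4 + u ^ 3 + u ^ 2 + u + 1 := nat_dvd hN (by
      have e : 1 + (u : ℤ) + (u : ℤ) ^ 2 + (u : ℤ) ^ 3 + (u : ℤ) ^ 4 + (u : ℤ) ^ 5 + (u : ℤ) ^ 6 =
        (u : ℤ) ^ 6 + (u : ℤ) ^ 5 + (u : ℤ) ^ 4 + (u : ℤ) ^ 3 + (u : ℤ) ^ 2 + u + 1 := by ring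
      rw [e]; exact h1)
    have h5 := eq_of_exact h hr hrm hrN (exact_E7_7 hF hu3 hN)
    rw [← h5] at h4
    interval_cases u <;> norm_num at h4
  · have h1 := dvd9 hr ho
    rw [pv9, hFN] at h1
    have hN : ((u ^ 6 + u ^ 3 + 1 : ℕ) : ℤ) = 1 + (u : ℤ) ^ 3 + (u : ℤ) ^ 6 := by push_cast; ring
    have hrN : r ∣ u ^ 6 + u ^ 3 + 1 := nat_dvd hN (by
      have e : 1 + (u : ℤ) ^ 3 + (u : ℤ) ^ 6 = (u : ℤ) ^ 6 + (u : ℤ) ^ 3 + 1 := by ring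
      rw [e]; exact h1)
    have h5 := eq_of_exact h hr hrm hrN (exact_E7_9 hF hu3 hN)
    rw [← h5] at h4
    interval_cases u <;> norm_num at h4

theorem e8_core {u : ℕ} (hF : Fintype.card F = u) (hu : IsPrimePow u) (h : TK p q k ↥(chevE8.group F)) : False := by
  obtain ⟨r, hr, hrm, hrd, hr8, hn⟩ := exists_r h
  have hFN : Nat.card F = u := by rw [Nat.card_eq_fintype_card, hF]
  have hu2 : 2 ≤ u := by rw [← hF]; exact Fintype.one_lt_card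
  have hr5 : r ≠ 5 := by rintro rfl; omega
  -- the eighth root
  obtain ⟨i, hi⟩ : ∃ i, k = i + 3 := ⟨k - 3, by have := h.hk; omega⟩
  have hw8 : 2 * mn q k = (q ^ 2 ^ i) ^ 8 + 1 := by
    rw [two_mn h.hk2 h.odd, hi, pow_add, pow_mul]
    norm_num
  have hw1 : 1 < q ^ 2 ^ i := Nat.one_lt_pow (by positivity) (by have := h.three_le; omega)
  obtain ⟨x, hx⟩ := E8Tor.elt_E8 hF
  have htwo : ∀ j : ℕ, 2 ^ j ∣ u ^ 8 - 1 → 2 ^ j ∣ mn q k - 1 := fun j hj => h.two j x (hj.trans hx)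
  have fin := fun hm => e8_num (m := mn q k) (u := u) h.odd.pow hw1 hw8 hu htwo hm
  rcases (near_E8 F hr hrd).resolve_left hn with ho | ho | ho | ho
  · have h1 := dvd15 hr ho
    rw [pv15, hFN] at h1
    obtain ⟨N15, hN15⟩ : ∃ N : ℕ, (N : ℤ) = P15 u := by
      refine CycExc.exists_nat ?_
      have e : P15 (u : ℤ) = 1 + u * (u ^ 2 - 1) + u ^ 4 * (u - 1) + u ^ 4 * (u ^ 3 * (u - 1)) := by unfold P15; ring
      have q2 : (2 : ℤ) ≤ u := by exact_mod_cast hu2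
      have p2 : (4 : ℤ) ≤ (u : ℤ) ^ 2 := by nlinarith
      rw [e]
      have h5 : 0 ≤ (u : ℤ) * (u ^ 2 - 1) := mul_nonneg (by linarith) (by linarith)
      have h6 : 0 ≤ (u : ℤ) ^ 4 * (u - 1) := mul_nonneg (by positivity) (by linarith)
      have h7 : 0 ≤ (u : ℤ) ^ 4 * (u ^ 3 * (u - 1)) := mul_nonneg (by positivity) (mul_nonneg (by positivity) (by linarith))
      linarith
    have hrN : r ∣ N15 := nat_dvd hN15 (by
      have e : P15 (u : ℤ) = (u : ℤ) ^ 8 - (u : ℤ) ^ 7 + (u : ℤ) ^ 5 - (u : ℤ) ^ 4 + (u : ℤ) ^ 3 - u + 1 := by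
        unfold P15; ring
      rw [e]; exact h1)
    have h5 := eq_of_exact h hr hrm hrN (exact_E8_15 hF hN15)
    exact fin (Or.inl (by rw [← h5, hN15]))
  · have h1 := dvd20 hr ho
    rw [pv20, hFN] at h1
    obtain ⟨N, hN⟩ : ∃ N : ℕ, (N : ℤ) = 1 - (u : ℤ) ^ 2 + (u : ℤ) ^ 4 - (u : ℤ) ^ 6 + (u : ℤ) ^ 8 := by
      refine CycExc.exists_nat ?_
      have q2 : (2 : ℤ) ≤ u := by exact_mod_cast hu2
      have p2 : (4 : ℤ) ≤ (u : ℤ) ^ 2 := by nlinarith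
      have e : 1 - (u : ℤ) ^ 2 + (u : ℤ) ^ 4 - (u : ℤ) ^ 6 + (u : ℤ) ^ 8 =
        1 + u ^ 2 * (u ^ 2 - 1) + u ^ 4 * (u ^ 2 * (u ^ 2 - 1)) := by ring
      rw [e]
      have h5 : 0 ≤ (u : ℤ) ^ 2 * (u ^ 2 - 1) := mul_nonneg (by linarith) (by linarith)
      have h6 : 0 ≤ (u : ℤ) ^ 4 * (u ^ 2 * (u ^ 2 - 1)) := mul_nonneg (by positivity) h5
      linarith
    have hrN : r ∣ N := nat_dvd hN (by
      have e : 1 - (u : ℤ) ^ 2 + (u : ℤ) ^ 4 - (u : ℤ) ^ 6 + (u : ℤ) ^ 8 =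
        (u : ℤ) ^ 8 - (u : ℤ) ^ 6 + (u : ℤ) ^ 4 - (u : ℤ) ^ 2 + 1 := by ring
      rw [e]; exact h1)
    obtain ⟨T, hT1, hT2, hT3⟩ := T_E8_20 hF hN hr hrN hr5
    have h5 := eq_of_T h hT1 hT2 hr hrm hrN hT3
    exact fin (Or.inr (Or.inl (by rw [← h5, hN]; rfl)))
  · have h1 := dvd24 hr ho
    rw [pv24, hFN] at h1
    have hle : u ^ 4 ≤ u ^ 8 := Nat.pow_le_pow_right hu.pos (by norm_num)
    have hN : ((u ^ 8 - u ^ 4 + 1 : ℕ) : ℤ) = 1 - (u : ℤ) ^ 4 + (u : ℤ) ^ 8 := by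
      push_cast [Nat.cast_sub hle]; ring
    have hrN : r ∣ u ^ 8 - u ^ 4 + 1 := nat_dvd hN (by
      have e : 1 - (u : ℤ) ^ 4 + (u : ℤ) ^ 8 = (u : ℤ) ^ 8 - (u : ℤ) ^ 4 + 1 := by ring
      rw [e]; exact h1)
    have h5 := eq_of_exact h hr hrm hrN (exact_E8_24 hF hN)
    refine h.prime_power (hu.pow four_ne_zero) (Or.inr ?_)
    rw [← h5, Nat.mul_sub, mul_one]
    congr 2
    ring
  · have h1 := dvd30 hr ho
    rw [pv30, hFN] at h1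
    obtain ⟨N30, hN30⟩ : ∃ N : ℕ, (N : ℤ) = P30 u := by
      refine CycExc.exists_nat ?_
      have q2 : (2 : ℤ) ≤ u := by exact_mod_cast hu2
      have p2 : (4 : ℤ) ≤ (u : ℤ) ^ 2 := by nlinarith
      have p3 : (8 : ℤ) ≤ (u : ℤ) ^ 3 := by nlinarith [pow_succ (u : ℤ) 2]
      have p4 : (16 : ℤ) ≤ (u : ℤ) ^ 4 := by nlinarith [pow_succ (u : ℤ) 3]
      have p5 : (32 : ℤ) ≤ (u : ℤ) ^ 5 := by nlinarith [pow_succ (u : ℤ) 4]
      have p7 : 2 * (u : ℤ) ^ 5 ≤ (u : ℤ) ^ 7 := by nlinarith [pow_succ (u : ℤ) 6, pow_succ (u : ℤ) 5]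
      unfold P30
      nlinarith [pow_succ (u : ℤ) 7, pow_succ (u : ℤ) 6, pow_succ (u : ℤ) 5, pow_succ (u : ℤ) 4, pow_succ (u : ℤ) 3]
    have hrN : r ∣ N30 := nat_dvd hN30 (by
      have e : P30 (u : ℤ) = (u : ℤ) ^ 8 + (u : ℤ) ^ 7 - (u : ℤ) ^ 5 - (u : ℤ) ^ 4 - (u : ℤ) ^ 3 + u + 1 := by
        unfold P30; ring
      rw [e]; exact h1)
    have h5 := eq_of_exact h hr hrm hrN (exact_E8_30 hF hN30)
    exact fin (Or.inr (Or.inr (by rw [← h5, hN30])))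

variable {S : Type u} [Group S] {v : ℕ}

theorem g2 (h : TK p q k S) (hg : IsNamed (.g2 v) S) : False := by
  obtain ⟨F, _, _, hF, ⟨e⟩⟩ := hg.real
  exact g2_core hF hg.cond.2 (h.congr e)

theorem f4 (h : TK p q k S) (hg : IsNamed (.f4 v) S) : False := by
  obtain ⟨F, _, _, hF, ⟨e⟩⟩ := hg.real
  exact f4_core hF hg.cond (h.congr e)

theorem td4 (h : TK p q k S) (hg : IsNamed (.td4 v) S) : False := by
  obtain ⟨F, _, _, hF, ⟨e⟩⟩ := hg.real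
  exact td4_core hF hg.cond (h.congr e)

theorem e7 (h : TK p q k S) (hg : IsNamed (.e7 v) S) : False := by
  obtain ⟨F, _, _, hF, ⟨e⟩⟩ := hg.real
  exact e7_core hF (h.congr e)

theorem e8 (h : TK p q k S) (hg : IsNamed (.e8 v) S) : False := by
  obtain ⟨F, _, _, hF, ⟨e⟩⟩ := hg.real
  exact e8_core hF hg.cond (h.congr e)

end Cfsg.Agent.H76.TP
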