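import Cfsg.Agent.H76.TP.Base
import Cfsg.Agent.H892.TExcB

/-!
# Block TP (S3536): `E₆`, `²E₆`, Suzuki, Ree, `²F₄` (helper76, after helper892)

`e6`, `te6`, `sz`, `ree`, `tf4`, `tits` : `TK p q k S → IsNamed (.x v) S → False`.
-/

set_option autoImplicit false
set_option linter.unusedSectionVars false

namespace Cfsg.Agent.H76.TP

open Cfsg Cfsg.Lie Subgroup
open Cfsg.Agent.H202.T Cfsg.Agent.H202.TP Cfsg.Agent.H436 Cfsg.Agent.OrdDiv
open Cfsg.Agent.H129 Cfsg.Agent.H129.CycT Cfsg.Agent.H129.WData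
open Cfsg.Agent.H378 Cfsg.Agent.H378.ExcAdj Cfsg.Agent.H378.CycTab Cfsg.Agent.H378.ExcNear Cfsg.Agent.H378.RegFin
  Cfsg.Agent.H378.AdjTab
open Cfsg.Agent.H892.TExc (nat_dvd elt_E6 elt_tE6 small_prime tf4_num ree_num sz_num)

universe u

variable {p q k : ℕ}

/-- `E₆`, `3 m = u⁶ + u³ + 1` -/
theorem e6_num {m u : ℕ} (h8 : m % 8 = 1) (hm : 1 < m) (hN : u ^ 6 + u ^ 3 + 1 = 3 * m)
    (hT : ∀ j : ℕ, 2 ^ j ∣ u ^ 2 - 1 → 2 ^ j ∣ m - 1) : False := by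
  have hu : u % 8 = 1 := by
    have h3 : (u ^ 6 + u ^ 3 + 1) % 8 = 3 := by omega
    have h4 : u % 8 < 8 := Nat.mod_lt _ (by norm_num)
    rw [Nat.add_mod, Nat.add_mod (u ^ 6), Nat.pow_mod, Nat.pow_mod u 3] at h3
    interval_cases (u % 8) <;> simp_all
  have hu1 : 1 ≤ u := by omega
  have hu2 : u ≠ 1 := by
    rintro rfl
    omega
  obtain ⟨w, rfl⟩ : ∃ w, u = w + 1 := ⟨u - 1, by omega⟩
  have hw0 : w ≠ 0 := by omega
  -- the 2-part of `w`
  obtain ⟨j, o, ho, rfl⟩ := Nat.exists_eq_two_pow_mul_odd hw0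
  have h5 : 2 ^ (j + 1) ∣ (2 ^ j * o + 1) ^ 2 - 1 := by
    have e : (2 ^ j * o + 1) ^ 2 - 1 = 2 ^ j * o * (2 ^ j * o + 2) := by
      have : (2 ^ j * o + 1) ^ 2 = 2 ^ j * o * (2 ^ j * o + 2) + 1 := by ring
      omega
    rw [e, pow_succ]
    refine Nat.mul_dvd_mul (Dvd.intro _ rfl) ?_
    omega
  have h6 := hT _ h5
  have h7 : 3 * (m - 1) = ((2 ^ j * o) * ((2 ^ j * o) ^ 2 + 3 * (2 ^ j * o) + 3)) * ((2 ^ j * o + 1) ^ 3 + 2) := by
    obtain ⟨b, rfl⟩ : ∃ b, m = b + 1 := ⟨m - 1, by omega⟩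
    rw [Nat.add_sub_cancel]
    have e : (2 ^ j * o + 1) ^ 6 + (2 ^ j * o + 1) ^ 3 + 1 =
      ((2 ^ j * o) * ((2 ^ j * o) ^ 2 + 3 * (2 ^ j * o) + 3)) * ((2 ^ j * o + 1) ^ 3 + 2) + 3 := by ring
    rw [e] at hN
    omega
  have h9 : 2 ^ (j + 1) ∣ 3 * (m - 1) := h6.mul_left 3
  rw [h7] at h9
  have h10 : Odd ((2 ^ j * o + 1) ^ 3 + 2) := by
    have : Odd (2 ^ j * o + 1) := by rw [Nat.odd_iff]; omega
    exact (this.pow).add_even (by decide)
  have h11 : Odd ((2 ^ j * o) ^ 2 + 3 * (2 ^ j * o) + 3) := by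
    have h12 : Even (2 ^ j * o) := by rw [Nat.even_iff]; omega
    have : Even ((2 ^ j * o) ^ 2 + 3 * (2 ^ j * o)) := (h12.pow_of_ne_zero (by norm_num)).add (h12.mul_left 3)
    exact this.add_odd (by decide)
  have cop : ∀ a : ℕ, Odd a → (2 ^ (j + 1)).Coprime a := fun a ha =>
    Nat.Coprime.pow_left _ (Nat.coprime_two_left.2 ha)
  have h12 := (cop _ h10).dvd_of_dvd_mul_right h9
  have h13 := (cop _ h11).dvd_of_dvd_mul_right h12
  have h14 := (cop _ ho).dvd_of_dvd_mul_right h13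
  have := (Nat.pow_dvd_pow_iff_le_right (by norm_num : 1 < 2)).1 h14
  omega

/-- `²E₆`, `3 m = u⁶ - u³ + 1` -/
theorem te6_num {m u : ℕ} (h8 : m % 8 = 1) (hm : 1 < m) (hu1 : 1 ≤ u) (hN : u ^ 6 - u ^ 3 + 1 = 3 * m)
    (hT : ∀ j : ℕ, 2 ^ j ∣ u ^ 2 - 1 → 2 ^ j ∣ m - 1) : False := by
  have hle : u ^ 3 ≤ u ^ 6 := Nat.pow_le_pow_right hu1 (by norm_num)
  have hN' : u ^ 6 + 1 = 3 * m + u ^ 3 := by omega
  have hu : u % 8 = 7 := by
    have h3 : (u ^ 6 + 1) % 8 = (3 + u ^ 3) % 8 := by omega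
    have h4 : u % 8 < 8 := Nat.mod_lt _ (by norm_num)
    rw [Nat.add_mod, Nat.pow_mod, Nat.add_mod 3, Nat.pow_mod u 3] at h3
    interval_cases (u % 8) <;> simp_all
  obtain ⟨w, hw⟩ : ∃ w, w = u + 1 := ⟨_, rfl⟩
  have hw0 : w ≠ 0 := by omega
  -- the 2-part of `w`
  obtain ⟨j, o, ho, hko⟩ := Nat.exists_eq_two_pow_mul_odd hw0
  have h5 : 2 ^ (j + 1) ∣ u ^ 2 - 1 := by
    have e : u ^ 2 - 1 = w * (u - 1) := by
      have := Nat.sq_sub_sq u 1
      rw [hw]; simpa using this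
    rw [e, hko, pow_succ]
    refine Nat.mul_dvd_mul (Dvd.intro _ rfl) ?_
    omega
  have h6 := hT _ h5
  have h3 : 2 ≤ u ^ 3 := by
    have : 2 ^ 3 ≤ u ^ 3 := Nat.pow_le_pow_left (by omega) 3
    omega
  have h7 : 3 * (m - 1) = (w * (u ^ 2 - u + 1)) * (u ^ 3 - 2) := by
    obtain ⟨b', rfl⟩ : ∃ b, m = b + 1 := ⟨m - 1, by omega⟩
    rw [Nat.add_sub_cancel]
    have hle2 : u ≤ u ^ 2 := Nat.le_self_pow (by norm_num) _
    obtain ⟨b, hb⟩ := Nat.exists_eq_add_of_le hle2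
    have e1 : u ^ 2 - u + 1 = b + 1 := by omega
    obtain ⟨d, hd⟩ := Nat.exists_eq_add_of_le h3
    have e2 : u ^ 3 - 2 = d := by omega
    rw [e1, e2, hw]
    have e3 : (u + 1) * (b + 1) = u ^ 3 + 1 := by
      have : (u + 1) * (b + 1) + (u + 1) * u = (u + 1) * (u ^ 2 + 1) := by rw [hb]; ring
      nlinarith
    rw [e3]
    have h10 : u ^ 6 = u ^ 3 * u ^ 3 := by ring
    rw [h10, hd] at hN'
    rw [hd]
    nlinarith
  have h9 : 2 ^ (j + 1) ∣ 3 * (m - 1) := h6.mul_left 3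
  rw [h7] at h9
  have hou : Odd u := by rw [Nat.odd_iff]; omega
  have h10 : Odd (u ^ 3 - 2) := by
    refine Nat.Odd.sub_even h3 hou.pow (by decide)
  have h11 : Odd (u ^ 2 - u + 1) := by
    have hle2 : u ≤ u ^ 2 := Nat.le_self_pow (by norm_num) _
    exact (Nat.Odd.sub_odd hou.pow hou).add_one
  have cop : ∀ a : ℕ, Odd a → (2 ^ (j + 1)).Coprime a := fun a ha =>
    Nat.Coprime.pow_left _ (Nat.coprime_two_left.2 ha)
  have h12 := (cop _ h10).dvd_of_dvd_mul_right h9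
  have h13 := (cop _ h11).dvd_of_dvd_mul_right h12
  rw [hko] at h13
  have h14 := (cop _ ho).dvd_of_dvd_mul_right h13
  have := (Nat.pow_dvd_pow_iff_le_right (by norm_num : 1 < 2)).1 h14
  omega

theorem one_lt {S : Type*} [Group S] (h : TK p q k S) : 1 < mn q k := by
  have := h.mn_ge
  omega

section

variable {F : Type u} [Field F] [Fintype F]

theorem e6_core {u : ℕ} (hF : Fintype.card F = u) (hu : IsPrimePow u) (h : TK p q k ↥(chevE6.group F)) : False := by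
  obtain ⟨r, hr, hrm, hrd, hr8, hn⟩ := exists_r h
  have hFN : Nat.card F = u := by rw [Nat.card_eq_fintype_card, hF]
  have ho := (near_E6 F hr hrd).resolve_left hn
  have h1 := dvd9 hr ho
  rw [pv9, hFN] at h1
  have hN : ((u ^ 6 + u ^ 3 + 1 : ℕ) : ℤ) = 1 + (u : ℤ) ^ 3 + (u : ℤ) ^ 6 := by push_cast; ring
  have hrN : r ∣ u ^ 6 + u ^ 3 + 1 := nat_dvd hN (by
    have e : 1 + (u : ℤ) ^ 3 + (u : ℤ) ^ 6 = (u : ℤ) ^ 6 + (u : ℤ) ^ 3 + 1 := by ring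
    rw [e]; exact h1)
  have hE := exact_E6_9 hF hN
  rcases (Nat.dvd_prime Nat.prime_three).1 (Nat.gcd_dvd_left 3 (u - 1)) with hg | hg
  · rw [hg, Nat.div_one] at hE
    have h5 := eq_of_exact h hr hrm hrN hE
    refine h.prime_power (hu.pow three_ne_zero) (Or.inl ?_)
    rw [← h5]
    ring
  · rw [hg] at hE
    have h3 : 3 ∣ u ^ 6 + u ^ 3 + 1 := by
      have h6 : 3 ∣ u - 1 := by rw [← hg]; exact Nat.gcd_dvd_right _ _
      have h7 : u % 3 = 1 := by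
        have := hu.pos
        omega
      have : (u ^ 6 + u ^ 3 + 1) % 3 = 0 := by
        rw [Nat.add_mod, Nat.add_mod (u ^ 6), Nat.pow_mod, Nat.pow_mod u 3, h7]
      exact Nat.dvd_of_mod_eq_zero this
    obtain ⟨M, hM⟩ := h3
    have hM3 : (u ^ 6 + u ^ 3 + 1) / 3 = M := by omega
    rw [hM3] at hE
    have hrM : r ∣ M := by
      rw [hM] at hrN
      refine (hr.dvd_mul.1 hrN).resolve_left fun h5 => ?_
      have := (Nat.prime_dvd_prime_iff_eq hr Nat.prime_three).1 h5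
      omega
    have h5 := eq_of_exact h hr hrm hrM hE
    refine e6_num (u := u) h.mn_mod (one_lt h) (by rw [hM, h5]) fun j hj => ?_
    obtain ⟨x, hx⟩ := elt_E6 hF
    rw [hg] at hx
    exact two_dvd h x (by decide : Odd 3) hx hj

theorem te6_two {S : Type*} [Group S] (h : TK p q k S) (hc : Nat.card S = 76532479683774853939200) : False := by
  have h1 := h.dvd_card
  rw [hc, show 76532479683774853939200 = (2 ^ 36 * 3 ^ 9 * 5 ^ 2 * 7 ^ 2 * 11 ^ 1 * 13 ^ 1 * 19 ^ 1) * 17 by norm_num]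
    at h1
  have h2 : (mn q k).Coprime (2 ^ 36 * 3 ^ 9 * 5 ^ 2 * 7 ^ 2 * 11 ^ 1 * 13 ^ 1 * 19 ^ 1) := by
    refine Nat.Coprime.symm (Nat.coprime_of_dvd fun s hs h3 h4 => ?_)
    exact small_prime hs (h.mod_eight hs h4) h3
  have h3 := Nat.le_of_dvd (by norm_num) (h2.dvd_of_dvd_mul_left h1)
  have := h.mn_ge
  omega

theorem te6_core {u : ℕ} (hF : Fintype.card F = u ^ 2) (hu : IsPrimePow u) (hu2 : u ≠ 2)
    (h : TK p q k ↥(twistedE6 F u)) : False := by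
  obtain ⟨r, hr, hrm, hrd, hr8, hn⟩ := exists_r h
  rcases (TwRows.near_2E6 hu hF hr hrd).resolve_left hn with ho | ⟨ho, -⟩
  swap
  · exact hu2 ho
  have h1 := dvd18 hr ho
  rw [pv18] at h1
  have hle : u ^ 3 ≤ u ^ 6 := Nat.pow_le_pow_right hu.pos (by norm_num)
  have hN : ((u ^ 6 - u ^ 3 + 1 : ℕ) : ℤ) = 1 - (u : ℤ) ^ 3 + (u : ℤ) ^ 6 := by
    push_cast [Nat.cast_sub hle]; ring
  have hrN : r ∣ u ^ 6 - u ^ 3 + 1 := nat_dvd hN (by
    have e : 1 - (u : ℤ) ^ 3 + (u : ℤ) ^ 6 = (u : ℤ) ^ 6 - (u : ℤ) ^ 3 + 1 := by ring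
    rw [e]; exact h1)
  have hE := exact_tE6_18 hu hF hN
  rcases (Nat.dvd_prime Nat.prime_three).1 (Nat.gcd_dvd_left 3 (u + 1)) with hg | hg
  · rw [hg, Nat.div_one] at hE
    have h5 := eq_of_exact h hr hrm hrN hE
    refine h.prime_power (hu.pow three_ne_zero) (Or.inr ?_)
    rw [← h5, Nat.mul_sub, mul_one]
    congr 2
    ring
  · rw [hg] at hE
    have h3 : 3 ∣ u ^ 6 - u ^ 3 + 1 := by
      have h6 : 3 ∣ u + 1 := by rw [← hg]; exact Nat.gcd_dvd_right _ _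
      have h7 : u % 3 = 2 := by omega
      have h8 : (u ^ 6) % 3 = 1 := by rw [Nat.pow_mod, h7]
      have h9 : (u ^ 3) % 3 = 2 := by rw [Nat.pow_mod, h7]
      omega
    obtain ⟨M, hM⟩ := h3
    have hM3 : (u ^ 6 - u ^ 3 + 1) / 3 = M := by omega
    rw [hM3] at hE
    have hrM : r ∣ M := by
      rw [hM] at hrN
      refine (hr.dvd_mul.1 hrN).resolve_left fun h5 => ?_
      have := (Nat.prime_dvd_prime_iff_eq hr Nat.prime_three).1 h5
      omega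
    have h5 := eq_of_exact h hr hrm hrM hE
    refine te6_num (u := u) h.mn_mod (one_lt h) hu.pos (by rw [hM, h5]) fun j hj => ?_
    obtain ⟨x, hx⟩ := elt_tE6 hu hF
    rw [hg, mul_comm] at hx
    exact two_dvd h x (by decide : Odd 3) hx hj

theorem ree_core {j : ℕ} (hk : 1 ≤ j) (hF : Fintype.card F = 3 ^ (2 * j + 1))
    (h : TK p q k ↥(twistedG2 F (3 ^ j))) : False := by
  have hS := fun d => Cfsg.Agent.S1159.result hk hF d
  have h8 := h.mn_mod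
  have h41 := h.mn_ge
  have h4 := two_mm_eq h
  have ht : 3 ≤ 3 ^ j := by
    calc 3 = 3 ^ 1 := by norm_num
      _ ≤ 3 ^ j := Nat.pow_le_pow_right (by norm_num) hk
  have hu : 3 ^ (2 * j + 1) = 3 * (3 ^ j) ^ 2 := by rw [pow_succ, pow_mul']; ring
  have hr' : 3 ^ (j + 1) = 3 * 3 ^ j := by rw [pow_succ]; ring
  have hQ9 := h.nine_le_Q
  have hQo := h.odd_Q
  generalize q ^ 2 ^ (k - 2) = Q at h4 hQ9 hQo
  have h9 : (9 ^ j) % 8 = 1 := by rw [Nat.pow_mod]; norm_num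
  have h99 : (3 ^ j) ^ 2 = 9 ^ j := by rw [← pow_mul, mul_comm, pow_mul]; norm_num
  have hle : 3 * 3 ^ j ≤ 3 * (3 ^ j) ^ 2 := Nat.mul_le_mul_left _ (Nat.le_self_pow (by norm_num) _)
  rcases (hS (mn q k)).1 h.mem with h1 | h1 | h1 | h1 | h1 | h1
  · have := Nat.le_of_dvd (by norm_num) h1
    omega
  · have := Nat.le_of_dvd (by norm_num) h1
    omega
  · have h2 := eq_mn h h1 ((hS _).2 (by simp))
    omega
  · have h2 := eq_mn h h1 ((hS _).2 (by simp))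
    omega
  · have h2 := eq_mn h h1 ((hS _).2 (by simp))
    rw [hu, hr'] at h2
    refine ree_num (q := Q) (by omega) hk ?_ (by omega)
    rw [hr']
    have e : Q ^ 4 - 1 = 3 * 3 ^ j * (2 * (3 ^ j - 1)) := by
      obtain ⟨s, hs⟩ := Nat.exists_eq_add_of_le (show 1 ≤ 3 ^ j by omega)
      rw [hs, Nat.add_sub_cancel_left]
      rw [hs] at h2 hle
      have e3 : 3 * (1 + s) ^ 2 = 3 * (1 + s) * s + 3 * (1 + s) := by ring
      have e4 : 3 * (1 + s) * (2 * s) = 2 * (3 * (1 + s) * s) := by ring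
      rw [e4]
      omega
    rw [e]
    exact Dvd.intro _ rfl
  · have h2 := eq_mn h h1 ((hS _).2 (by simp))
    rw [hu, hr'] at h2
    refine ree_num (q := Q) (by omega) hk ?_ (by omega)
    rw [hr']
    have e : Q ^ 4 - 1 = 3 * 3 ^ j * (2 * (3 ^ j + 1)) := by
      have e4 : 3 * 3 ^ j * (2 * (3 ^ j + 1)) = 2 * (3 * (3 ^ j) ^ 2 + 3 * 3 ^ j) := by ring
      rw [e4]
      omega
    rw [e]
    exact Dvd.intro _ rfl

theorem sz_core {a : ℕ} (ha : 1 ≤ a) (hF : Fintype.card F = 2 ^ (2 * a + 1)) (h : TK p q k ↥(Cfsg.Sz F a)) :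
    False := by
  have h8 := h.mn_mod
  have h41 := h.mn_ge
  have h4 := two_mm_eq h
  have hQ9 := h.nine_le_Q
  have hQo := h.odd_Q
  generalize q ^ 2 ^ (k - 2) = Q at h4 hQ9 hQo
  obtain ⟨y, hy⟩ := h.mem
  have hy1 : y ≠ 1 := by
    rintro rfl
    rw [orderOf_one] at hy
    omega
  obtain ⟨U, ⟨hU, hyU⟩, -⟩ := Cfsg.Agent.S2238.result ha hF y hy1
  have hdU : mn q k ∣ Nat.card U := by
    rw [← hy, ← Subgroup.orderOf_mk y hyU]
    exact orderOf_dvd_natCard _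
  have h16 : 2 ^ (2 * a + 1) % 8 = 0 := by
    have : 2 ^ 3 ∣ 2 ^ (2 * a + 1) := pow_dvd_pow 2 (by omega)
    exact Nat.mod_eq_zero_of_dvd this
  have hle : 2 ^ (a + 1) ≤ 2 ^ (2 * a + 1) := Nat.pow_le_pow_right (by norm_num) (by omega)
  have hpos : 0 < 2 ^ (2 * a + 1) := by positivity
  rcases hU with ⟨P, hP⟩ | ⟨hc, hN⟩
  · rw [hP] at hdU
    obtain ⟨j, hj⟩ := IsPGroup.iff_card.1 P.isPGroup'
    rw [hj] at hdU
    have hodd : Odd (mn q k) := by rw [Nat.odd_iff]; omega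
    have h5 := ((Nat.Coprime.pow_right j (Nat.coprime_two_right.2 hodd)).eq_one_of_dvd hdU)
    omega
  · obtain ⟨t, ht⟩ := IsCyclic.exists_ofOrder_eq_natCard (α := ↥U)
    have h2 := eq_mn h hdU ⟨t, by rw [Subgroup.orderOf_coe, ht]⟩
    simp only [Set.mem_insert_iff, Set.mem_singleton_iff] at hN
    rw [h2] at hN
    rcases hN with hN | hN | hN
    · omega
    · have := (sz_num (q := Q) ha hQo (Or.inl (by omega))).1
      omega
    · have := (sz_num (q := Q) ha hQo (Or.inr (by omega))).1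
      omega

theorem tf4_core {j : ℕ} (hk : 1 ≤ j) (hF : Fintype.card F = 2 ^ (2 * j + 1))
    (h : TK p q k ↥(twistedF4 F (2 ^ j))) : False := by
  have h4 := two_mm_eq h
  have hQ9 := h.nine_le_Q
  have hQo := h.odd_Q
  have hFN : Nat.card F = Fintype.card F := Nat.card_eq_fintype_card
  obtain ⟨b, hb⟩ : ∃ b : ℕ, b = 2 ^ j := ⟨_, rfl⟩
  have hb2 : 2 ≤ b := by
    rw [hb]
    calc 2 = 2 ^ 1 := by norm_num
      _ ≤ 2 ^ j := Nat.pow_le_pow_right (by norm_num) hk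
  have hbz : ((2 : ℤ) ^ j) = b := by rw [hb]; push_cast; rfl
  have b2 : 2 * b ≤ b ^ 2 := by nlinarith
  have b3 : 2 * b ^ 2 ≤ b ^ 3 := by nlinarith
  have b4 : 2 * b ^ 3 ≤ b ^ 4 := by nlinarith [Nat.zero_le (b ^ 3), pow_succ b 3]
  obtain ⟨P, hP⟩ : ∃ P : ℕ, P = 4 * b ^ 4 + 4 * b ^ 3 + 2 * b ^ 2 + 2 * b + 1 := ⟨_, rfl⟩
  obtain ⟨M, hM⟩ : ∃ M : ℕ, M + 4 * b ^ 3 + 2 * b = 4 * b ^ 4 + 2 * b ^ 2 + 1 :=
    ⟨4 * b ^ 4 + 2 * b ^ 2 + 1 - (4 * b ^ 3 + 2 * b), by omega⟩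
  have hPz : (P : ℤ) = H493.PGF4T.fP (2 ^ j) := by
    rw [hbz, hP]; unfold H493.PGF4T.fP; push_cast; ring
  have hMz : (M : ℤ) = H493.PGF4T.fM (2 ^ j) := by
    have h1 : (M : ℤ) + 4 * (b : ℤ) ^ 3 + 2 * b = 4 * (b : ℤ) ^ 4 + 2 * (b : ℤ) ^ 2 + 1 := by exact_mod_cast hM
    rw [hbz]; unfold H493.PGF4T.fM; linarith
  obtain ⟨gP, hgP⟩ := H371.Core.TwF4.exists_cert hF H493.PGF4T.chainEp_ok H493.PGF4T.hThEp H493.PGF4T.certEp_fP
    (N := P) hPz
  obtain ⟨gM, hgM⟩ := H371.Core.TwF4.exists_cert hF H493.PGF4T.chainEm_ok H493.PGF4T.hThEm H493.PGF4T.certEm_fM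
    (N := M) hMz
  -- the product
  obtain ⟨u, hu⟩ : ∃ u, u = Fintype.card F := ⟨_, rfl⟩
  have hub : u = 2 * b ^ 2 := by rw [hu, hF, hb, pow_succ, pow_mul']; ring
  have hPM : ((P * M : ℕ) : ℤ) = (u : ℤ) ^ 4 - (u : ℤ) ^ 2 + 1 := by
    push_cast
    rw [hPz, hMz, hbz, hub]
    unfold H493.PGF4T.fP H493.PGF4T.fM
    push_cast
    ring
  obtain ⟨r, hr, hrm, hrd, hr8, hn⟩ := exists_r h
  have ho := (TwRowsF.near_2F4 hk hF hr hrd).resolve_left hn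
  have h1 := dvd12 hr ho
  rw [pv12, hFN, ← hu] at h1
  obtain ⟨y, hy⟩ := h.mem
  have hyd : mn q k ∣ P * M := by
    have h2 := H659.TwF4Ord.dvd_twelve hF hr (x := y) (by rw [hy]; exact hrm) (by rw [← hu]; exact h1)
    rw [← hu, ← hPM, hy] at h2
    exact Int.natCast_dvd_natCast.1 h2
  have hP0 : 0 < P := by omega
  have hM0 : 0 < M := by omega
  -- coprimality
  have hcop : P.Coprime M := by
    refine Nat.coprime_of_dvd fun s hs hsP hsM => ?_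
    have hs2 : s ≠ 2 := by
      rintro rfl
      omega
    have h2 : s ∣ P + M := hsP.add hsM |> fun h => h
    have e1 : P + M = 4 * b ^ 2 * (2 * b ^ 2 + 1) + 2 := by
      have : 4 * b ^ 2 * (2 * b ^ 2 + 1) = 8 * b ^ 4 + 4 * b ^ 2 := by ring
      omega
    have e2 : P = M + 4 * b * (2 * b ^ 2 + 1) := by
      have : 4 * b * (2 * b ^ 2 + 1) = 8 * b ^ 3 + 4 * b := by ring
      omega
    have h3 : s ∣ 4 * b * (2 * b ^ 2 + 1) := by
      rw [e2] at hsP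
      exact (Nat.dvd_add_right hsM).1 hsP
    have h5 : s ∣ 4 * b ^ 2 * (2 * b ^ 2 + 1) := by
      have : 4 * b ^ 2 * (2 * b ^ 2 + 1) = b * (4 * b * (2 * b ^ 2 + 1)) := by ring
      rw [this]
      exact h3.mul_left _
    rw [e1] at h2
    have h6 : s ∣ 2 := (Nat.dvd_add_right h5).1 h2
    exact hs2 ((Nat.prime_dvd_prime_iff_eq hs Nat.prime_two).1 h6)
  have isoP : ∀ s : ℕ, s.Prime → s ∣ mn q k → s ∣ P → P ∣ mn q k := fun s hs h1 h2 => by
    rw [← hgP] at h2 ⊢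
    exact h.iso s gP hs h1 h2
  have isoM : ∀ s : ℕ, s.Prime → s ∣ mn q k → s ∣ M → M ∣ mn q k := fun s hs h1 h2 => by
    rw [← hgM] at h2 ⊢
    exact h.iso s gM hs h1 h2
  have hprod : ¬ (P ∣ mn q k ∧ M ∣ mn q k) := by
    rintro ⟨h5, h6⟩
    have h7 : mn q k = P * M := Nat.dvd_antisymm hyd (hcop.mul_dvd_of_dvd_of_dvd h5 h6)
    have hup : IsPrimePow u := by rw [hu, hF]; exact Nat.prime_two.isPrimePow.pow (by omega)
    have hle : u ^ 2 ≤ u ^ 4 := Nat.pow_le_pow_right hup.pos (by norm_num)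
    refine no_twelve h hup ?_
    rw [h7]
    zify [hle]
    rw [← hPM]
    push_cast
    ring
  have key : mn q k = P ∨ mn q k = M := by
    by_cases h5 : (mn q k).Coprime M
    · left
      have h6 := h5.dvd_of_dvd_mul_right hyd
      refine Nat.dvd_antisymm h6 ?_
      exact isoP r hr hrm (hrm.trans h6)
    · right
      obtain ⟨s, hs, hsm, hsM⟩ := Nat.Prime.not_coprime_iff_dvd.1 h5
      have hMm := isoM s hs hsm hsM
      have h6 : (mn q k).Coprime P := by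
        by_contra hc
        obtain ⟨s', hs', hsm', hsP⟩ := Nat.Prime.not_coprime_iff_dvd.1 hc
        exact hprod ⟨isoP s' hs' hsm' hsP, hMm⟩
      exact Nat.dvd_antisymm (h6.dvd_of_dvd_mul_left hyd) hMm
  refine tf4_num hk hQo (by omega) ?_
  rw [← hb]
  rcases key with h5 | h5
  · left; omega
  · right; omega

end

variable {S : Type u} [Group S] {v : ℕ}

theorem e6 (h : TK p q k S) (hg : IsNamed (.e6 v) S) : False := by
  obtain ⟨F, _, _, hF, ⟨e⟩⟩ := hg.real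
  exact e6_core hF hg.cond (h.congr e)

theorem te6 (h : TK p q k S) (hg : IsNamed (.te6 v) S) : False := by
  by_cases hv : v = 2
  · subst hv
    refine te6_two h (hg.ord.trans ?_)
    decide
  · obtain ⟨F, _, _, hF, ⟨e⟩⟩ := hg.real
    exact te6_core hF hg.cond hv (h.congr e)

theorem ree (h : TK p q k S) (hg : IsNamed (.ree v) S) : False := by
  obtain ⟨F, _, _, m, hm, hF, hv, ⟨e⟩⟩ := hg.real
  exact ree_core hm (hF.trans hv) (h.congr e)

theorem sz (h : TK p q k S) (hg : IsNamed (.sz v) S) : False := by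
  obtain ⟨F, _, _, m, hm, hF, hv, ⟨e⟩⟩ := hg.real
  obtain ⟨e'⟩ := Cfsg.Agent.OddCyclic.ClaimC.SzIso.iso hm (hF.trans hv)
  exact sz_core hm (hF.trans hv) (h.congr (e.trans e'.symm))

theorem tf4 (h : TK p q k S) (hg : IsNamed (.tf4 v) S) : False := by
  obtain ⟨F, _, _, m, hm, hF, hv, ⟨e⟩⟩ := hg.real
  exact tf4_core hm (hF.trans hv) (h.congr e)

theorem tits (h : TK p q k S) (hg : IsNamed .tits S) : False := by
  obtain ⟨r, hr, hrm⟩ := exists_prime h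
  have h1 := hrm.trans h.dvd_card
  rw [hg.ord] at h1
  refine small_prime hr (h.mod_eight hr hrm) (a := 11) (b := 3) (c := 2) (d := 0) (e := 0) (f := 1) (g := 0) ?_
  have e : ordN .tits = 2 ^ 11 * 3 ^ 3 * 5 ^ 2 * 7 ^ 0 * 11 ^ 0 * 13 ^ 1 * 19 ^ 0 := by decide
  rwa [e] at h1

end Cfsg.Agent.H76.TP
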