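import Cfsg.Agent.H202.TP.Defs
import Cfsg.Agent.H892.TExcA

/-!
# Block TP (S3536): general facts on `TK` for the exceptional groups (helper76)

* `not_near`, `not_conn` : the prime divisors of `mn q k` are not connected with `2`;
* `eq_of_T`, `eq_of_exact`, `exists_r`, `eq_mn` : the analogues of `H892/TExcA`.
-/

set_option autoImplicit false
set_option linter.unusedSectionVars false

namespace Cfsg.Agent.H76.TP

open Cfsg Cfsg.Lie Subgroup
open Cfsg.Agent.H94.PG Cfsg.Agent.H202.T Cfsg.Agent.H202.TP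
open Cfsg.Agent.H129 Cfsg.Agent.H129.CycT

variable {p q k : ℕ}

section

variable {S : Type*} [Group S]

theorem dvd_four (h : TK p q k S) : 8 ∣ mn q k - 1 := by
  have := h.mn_mod
  omega

variable [Finite S]

/-- the neighbours of a prime divisor of `mn q k` divide `mn q k` -/
theorem adj (h : TK p q k S) {r s : ℕ} (hrm : r ∣ mn q k) (ha : Adj S r s) : s ∣ mn q k := by
  obtain ⟨hr, hs, hne, x, y, hx, hy, hxy⟩ := ha
  have h1 : orderOf (x * y) = r * s := by
    rw [hxy.orderOf_mul_eq_mul_orderOf_of_coprime (by rw [hx, hy]; exact (Nat.coprime_primes hr hs).2 hne), hx, hy]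
  have h2 := h.iso r (x * y) hr hrm (by rw [h1]; exact Dvd.intro _ rfl)
  rw [h1] at h2
  exact (Dvd.intro_left _ rfl : s ∣ r * s).trans h2

theorem conn (h : TK p q k S) {r s : ℕ} (hrm : r ∣ mn q k) (hc : Conn S r s) : s ∣ mn q k := by
  unfold Conn at hc
  induction hc with
  | refl => exact hrm
  | tail _ hbc ih => exact adj h ih hbc

/-- the prime divisors of `mn q k` are not connected with `2` -/
theorem not_conn (h : TK p q k S) {r : ℕ} (hrm : r ∣ mn q k) : ¬ Conn S r 2 := fun hc =>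
  h.ne_two_of_dvd (conn h hrm hc) rfl

theorem not_near (h : TK p q k S) {r : ℕ} (hrm : r ∣ mn q k) : ¬ H564.NearTwo.Near S r := fun hn =>
  not_conn h hrm hn.conn

end

theorem exists_prime {S : Type*} [Group S] (h : TK p q k S) : ∃ r : ℕ, r.Prime ∧ r ∣ mn q k := by
  apply Nat.exists_prime_and_dvd
  have := h.mn_ge
  omega

/-- a prime divisor of `mn q k` -/
theorem exists_r {G : Type*} [Group G] [Finite G] (h : TK p q k G) : ∃ r : ℕ, r.Prime ∧ r ∣ mn q k ∧ r ∣ Nat.card G ∧
    r % 8 = 1 ∧ ¬ H564.NearTwo.Near G r := by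
  obtain ⟨r, hr, hrm⟩ := exists_prime h
  exact ⟨r, hr, hrm, hrm.trans h.dvd_card, h.mod_eight hr hrm, not_near h hrm⟩

/-- an element order which is a multiple of `mn q k` is `mn q k` -/
theorem eq_mn {G : Type*} [Group G] (h : TK p q k G) {N : ℕ} (hd : mn q k ∣ N) (hN : ∃ x : G, orderOf x = N) :
    N = mn q k := by
  obtain ⟨r, hr, hrm⟩ := exists_prime h
  obtain ⟨x, rfl⟩ := hN
  exact Nat.dvd_antisymm (h.iso r x hr hrm (hrm.trans hd)) hd

/-- **A cyclic subgroup containing the centralisers of its elements of order `r` has order `mn q k`.** -/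
theorem eq_of_T {G : Type*} [Group G] [Finite G] (h : TK p q k G) {T : Subgroup G} (hc : IsCyclic ↥T) {N r : ℕ}
    (hN : Nat.card ↥T = N) (hr : r.Prime) (hrm : r ∣ mn q k) (hrN : r ∣ N)
    (hcent : ∀ y ∈ T, orderOf y = r → Subgroup.centralizer {y} ≤ T) : N = mn q k := by
  obtain ⟨t, ht⟩ := IsCyclic.exists_ofOrder_eq_natCard (α := ↥T)
  have ht' : orderOf (t : G) = N := by rw [Subgroup.orderOf_coe, ht, hN]
  apply Nat.dvd_antisymm
  · rw [← ht']
    exact h.iso r _ hr hrm (by rw [ht']; exact hrN)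
  · obtain ⟨y, hy⟩ := h.mem
    obtain ⟨a, ha⟩ := hrm
    have ha0 : a ≠ 0 := by
      rintro rfl
      have := h.mn_ge
      omega
    have hx : orderOf (y ^ a) = r := by
      rw [orderOf_pow_of_dvd ha0 (by rw [hy, ha]; exact Dvd.intro_left _ rfl), hy, ha,
        Nat.mul_div_cancel _ (Nat.pos_of_ne_zero ha0)]
    obtain ⟨g, -, hg⟩ := centralizer_conj hc hr (by rw [hN]; exact hrN) hcent hx
    have h1 : g * y * g⁻¹ ∈ T := (hg y).1 (by
      rw [Subgroup.mem_centralizer_singleton_iff]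
      exact (Commute.refl y).pow_right a)
    have h2 : orderOf (g * y * g⁻¹) = orderOf y := orderOf_injective (MulAut.conj g).toMonoidHom (MulAut.conj g).injective y
    rw [← hy, ← h2, ← hN]
    have h3 := orderOf_dvd_natCard (⟨_, h1⟩ : ↥T)
    rwa [Subgroup.orderOf_mk] at h3

theorem eq_of_exact {G : Type*} [Group G] [Finite G] (h : TK p q k G) {N r : ℕ} (hr : r.Prime) (hrm : r ∣ mn q k)
    (hrN : r ∣ N) (hC : CycExact G N) : N = mn q k := by
  obtain ⟨T, h1, h2, h3⟩ := hC
  refine eq_of_T h h1 h2 hr hrm hrN fun y hy hyr => (h3 y hy ?_).le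
  rintro rfl
  rw [orderOf_one] at hyr
  exact hr.one_lt.ne hyr

/-- `Φ₁₂(u) = mn q k` is impossible -/
theorem no_twelve {S : Type*} [Group S] (h : TK p q k S) {u : ℕ} (hu : IsPrimePow u) (h' : u ^ 4 - u ^ 2 + 1 = mn q k) :
    False := by
  refine h.prime_power (hu.pow two_ne_zero) (Or.inr ?_)
  rw [← h', Nat.mul_sub, mul_one]
  congr 2
  ring

/-- `Q ^ 4`, `Q = q ^ (n / 4)` -/
theorem two_mm_eq {S : Type*} [Group S] (h : TK p q k S) : 2 * mn q k = (q ^ 2 ^ (k - 2)) ^ 4 + 1 := by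
  rw [h.mn_eq]
  exact two_mm h.odd_Q

/-- the power of `2` in the elements -/
theorem two_dvd {S : Type*} [Group S] (h : TK p q k S) (x : S) {N d j : ℕ} (hd : Odd d) (hx : N ∣ orderOf x * d)
    (hj : 2 ^ j ∣ N) : 2 ^ j ∣ mn q k - 1 :=
  h.two j x ((Nat.Coprime.pow_left _ (Nat.coprime_two_left.2 hd)).dvd_of_dvd_mul_right (hj.trans hx))

end Cfsg.Agent.H76.TP
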